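/-
helper87, module S4705-[CENTMUL] of helper17's S4705 project.
-/
import Mathlib
import Cfsg.Prelude.Def_Characters
import Cfsg.Prelude.Def_Blocks
import Cfsg.Agent.Lib.Helper17.PM2.Defs
import Cfsg.Agent.Lib.Helper77.CenterIrr

set_option autoImplicit false

open Cfsg Cfsg.Agent.Lib.Helper17.PM2
open scoped ComplexConjugate commutatorElement

universe u

namespace Cfsg.Agent.Lib.Helper87.S4705

open Cfsg.Agent.Lib.Helper77 in
/-- [CENTMUL] -/
theorem irr_mul_center {G : Type u} [Group G] [Finite G] {η : G → ℂ} (hη : IsIrrCharacter G η)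
    {z : G} (hz : z ∈ Subgroup.center G) (g : G) :
    η (g * z) = η z / η 1 * η g ∧ ‖η z / η 1‖ = 1 := by
  let χ : IrrCharacter G := ⟨η, hη⟩
  have hzc : z ∈ irrCenter χ := by
    rw [mem_irrCenter_iff_commutator]
    intro h
    have h0 : ⁅z, h⁆ = 1 := by
      rw [commutatorElement_def]
      have := Subgroup.mem_center_iff.mp hz h
      rw [← this]
      group
    rw [h0]
    exact one_mem _
  have h1 := irr_center_mul χ ⟨z, hzc⟩ g
  rw [irrCenterScalar_apply] at h1
  have h2 : g * z = z * g := Subgroup.mem_center_iff.mp hz g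
  have h3 := (mem_irrCenter χ z).1 hzc
  have h4 : η 1 ≠ 0 := by
    have h5 : η 1 = (irrDim χ : ℂ) := irr_apply_one χ
    rw [h5]
    exact_mod_cast irrDim_ne_zero χ
  refine ⟨?_, ?_⟩
  · rw [h2]
    exact h1
  · rw [norm_div]
    have h6 : ‖η z‖ = ‖η 1‖ := h3
    rw [h6, div_self]
    exact norm_ne_zero_iff.mpr h4

end Cfsg.Agent.Lib.Helper87.S4705
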