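/-
helper87, modules S4705-[LAM-VAN] and S4705-[SYM-VAN] of helper17's S4705 project:
the values of `altSq ζ` and `symSq ζ` on `p`-singular elements.
-/
import Mathlib
import Cfsg.Prelude.Def_Characters
import Cfsg.Prelude.Def_Blocks
import Cfsg.Agent.Lib.Helper17.PM2.Defs
import Cfsg.Agent.Lib.Helper87.S4705.CentMul

set_option autoImplicit false

open Cfsg Cfsg.Agent.Lib.Helper17.PM2
open scoped ComplexConjugate

universe u

namespace Cfsg.Agent.Lib.Helper87.S4705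

theorem irr_classFun {G : Type u} [Group G] {η : G → ℂ} (hη : IsIrrCharacter G η)
    (g h : G) : η (h * g * h⁻¹) = η g := by
  obtain ⟨n, ρ, _, rfl⟩ := hη
  exact ρ.char_conj g h

theorem irr_classFun_pow {G : Type u} [Group G] {η : G → ℂ} (hη : IsIrrCharacter G η)
    (g h : G) (n : ℕ) : η ((h * g * h⁻¹) ^ n) = η (g ^ n) := by
  rw [conj_pow]
  exact irr_classFun hη _ _

variable {G : Type u} [Group G] [Fintype G] {p : ℕ} (S : Setting G p)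

/-- The common computation for [LAM-VAN] and [SYM-VAN]. -/
theorem psing_values (hodd : ∀ z ∈ Subgroup.center G, Odd (orderOf z))
    (hzreg : ∀ z ∈ Subgroup.center G, ¬ p ∣ orderOf z)
    (hpsi : ∀ w : ↥(S.P : Subgroup G), w ≠ 1 →
      ∑ η ∈ S.D.Y, (((S.D.ψ η w : ℂˣ) : ℂ) + (((S.D.ψ η w)⁻¹ : ℂˣ) : ℂ)) = -1)
    (hconj : ∀ g : G, p ∣ orderOf g → ∃ h : G, ∃ y ∈ (S.P : Subgroup G), y ≠ 1 ∧
      ∃ z ∈ Subgroup.center G, h * g * h⁻¹ = y * z)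
    (g : G) (hg : p ∣ orderOf g) :
    ∃ θ ω : ℂ, ω ≠ 0 ∧ S.ζ g = -(θ * (ω + ω⁻¹)) ∧
      S.ζ (g ^ 2) = -(θ ^ 2 * (ω ^ 2 + (ω ^ 2)⁻¹)) ∧
      S.ζ (g ^ S.k) = -(θ ^ 2 * (ω ^ 2 + (ω ^ 2)⁻¹)) ∧
      ∑ η ∈ S.D.Y, η (g ^ S.k) = θ ^ 2 := by
  classical
  have hp : p.Prime := S.hp
  have hp5 : 5 < p := S.h5
  obtain ⟨h, y, hy, hy1, z, hz, hhg⟩ := hconj g hg
  -- facts on `y`
  set y' : ↥(S.P : Subgroup G) := ⟨y, hy⟩ with hy'
  have hy'1 : y' ≠ 1 := by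
    intro h0
    apply hy1
    exact congrArg Subtype.val h0
  have hordy' : orderOf y' = p := by
    have h1 : orderOf y' ∣ p := by
      have := orderOf_dvd_natCard y'
      rwa [S.hP] at this
    rcases (Nat.dvd_prime hp).1 h1 with h2 | h2
    · exact absurd (orderOf_eq_one_iff.1 h2) hy'1
    · exact h2
  have hordy : orderOf y = p := by
    rw [← hordy']
    exact Subgroup.orderOf_coe y'
  have hpodd : Odd p := by
    rcases hp.eq_two_or_odd' with h2 | h2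
    · omega
    · exact h2
  have hy'2 : y' ^ 2 ≠ 1 := by
    intro h0
    have h1 : orderOf y' ∣ 2 := orderOf_dvd_of_pow_eq_one h0
    rw [hordy'] at h1
    have := Nat.le_of_dvd (by norm_num) h1
    omega
  -- `y * z` has odd order
  have hcomm : Commute y z := Subgroup.mem_center_iff.mp hz y
  have hoddyz : Odd (orderOf (y * z)) := by
    have h1 : orderOf (y * z) ∣ Nat.lcm (orderOf y) (orderOf z) := hcomm.orderOf_mul_dvd_lcm
    have h2 : Odd (orderOf y * orderOf z) := by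
      rw [hordy]
      exact hpodd.mul (hodd z hz)
    exact Odd.of_dvd_nat h2 (dvd_trans h1 (Nat.lcm_dvd_mul _ _))
  have hk : (y * z) ^ S.k = (y * z) ^ 2 := S.hkodd _ hoddyz
  have hsq : (y * z) ^ 2 = y ^ 2 * z * z := by
    rw [hcomm.mul_pow, pow_two z, mul_assoc]
  -- the central character
  set θ : ℂ := S.ζ z / S.ζ 1 with hθ
  have hone : ¬ p ∣ orderOf (1 : G) := by
    rw [orderOf_one]
    intro h0
    have := Nat.le_of_dvd (by norm_num) h0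
    omega
  have hθη : ∀ η ∈ S.D.Y, η z / η 1 = θ := by
    intro η hη
    rw [S.D.hYreg η hη z (hzreg z hz), S.D.hYreg η hη 1 hone]
  have hmul : ∀ η ∈ S.D.Y, ∀ x : G, η (x * z) = θ * η x := by
    intro η hη x
    have := (irr_mul_center (S.D.hYirr η hη) hz x).1
    rw [hθη η hη] at this
    exact this
  have hmul2 : ∀ η ∈ S.D.Y, η ((y * z) ^ 2) = θ ^ 2 * η (y ^ 2) := by
    intro η hη
    rw [hsq, hmul η hη, hmul η hη]
    ring
  -- values on `P`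
  have hcoe2 : ((y' ^ 2 : ↥(S.P : Subgroup G)) : G) = y ^ 2 := by
    simp [hy']
  have hval1 : ∀ η ∈ S.D.Y, η y =
      -(((S.D.ψ η y' : ℂˣ) : ℂ) + (((S.D.ψ η y' : ℂˣ) : ℂ))⁻¹) := by
    intro η hη
    have := S.D.hYval η hη y' hy'1
    rw [Units.val_inv_eq_inv_val] at this
    exact this
  have hval2 : ∀ η ∈ S.D.Y, η (y ^ 2) =
      -(((S.D.ψ η (y' ^ 2) : ℂˣ) : ℂ) + (((S.D.ψ η (y' ^ 2))⁻¹ : ℂˣ) : ℂ)) := by
    intro η hη
    have := S.D.hYval η hη (y' ^ 2) hy'2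
    rw [hcoe2] at this
    exact this
  set ω : ℂ := ((S.D.ψ S.ζ y' : ℂˣ) : ℂ) with hω
  have hω0 : ω ≠ 0 := Units.ne_zero _
  have hζY := S.D.hζY
  have hζirr : IsIrrCharacter G S.ζ := S.hζ
  refine ⟨θ, ω, hω0, ?_, ?_, ?_, ?_⟩
  · -- `ζ g`
    rw [← irr_classFun hζirr g h, hhg, hmul S.ζ hζY, hval1 S.ζ hζY]
    ring
  · rw [← irr_classFun_pow hζirr g h 2, hhg, hmul2 S.ζ hζY, hval2 S.ζ hζY, map_pow,
      Units.val_inv_eq_inv_val, Units.val_pow_eq_pow_val]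
    ring
  · rw [← irr_classFun_pow hζirr g h S.k, hhg, hk, hmul2 S.ζ hζY, hval2 S.ζ hζY, map_pow,
      Units.val_inv_eq_inv_val, Units.val_pow_eq_pow_val]
    ring
  · have h1 : ∀ η ∈ S.D.Y, η (g ^ S.k) =
        -(θ ^ 2 * (((S.D.ψ η (y' ^ 2) : ℂˣ) : ℂ) + (((S.D.ψ η (y' ^ 2))⁻¹ : ℂˣ) : ℂ))) := by
      intro η hη
      rw [← irr_classFun_pow (S.D.hYirr η hη) g h S.k, hhg, hk, hmul2 η hη, hval2 η hη]
      ring
    rw [Finset.sum_congr rfl h1, Finset.sum_neg_distrib, ← Finset.mul_sum, hpsi (y' ^ 2) hy'2]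
    ring

/-- [LAM-VAN] -/
theorem altSq_psing (hodd : ∀ z ∈ Subgroup.center G, Odd (orderOf z))
    (hzreg : ∀ z ∈ Subgroup.center G, ¬ p ∣ orderOf z)
    (hpsi : ∀ w : ↥(S.P : Subgroup G), w ≠ 1 →
      ∑ η ∈ S.D.Y, (((S.D.ψ η w : ℂˣ) : ℂ) + (((S.D.ψ η w)⁻¹ : ℂˣ) : ℂ)) = -1)
    (hconj : ∀ g : G, p ∣ orderOf g → ∃ h : G, ∃ y ∈ (S.P : Subgroup G), y ≠ 1 ∧
      ∃ z ∈ Subgroup.center G, h * g * h⁻¹ = y * z)
    (g : G) (hg : p ∣ orderOf g) :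
    altSq S.ζ g = ∑ η ∈ S.D.Y, powFun S.k η g - powFun S.k S.ζ g := by
  obtain ⟨θ, ω, hω, h1, h2, h3, h4⟩ := psing_values S hodd hzreg hpsi hconj g hg
  unfold altSq powFun
  rw [h1, h2, h3, h4]
  field_simp
  ring

/-- [SYM-VAN] -/
theorem symSq_psing (hodd : ∀ z ∈ Subgroup.center G, Odd (orderOf z))
    (hzreg : ∀ z ∈ Subgroup.center G, ¬ p ∣ orderOf z)
    (hpsi : ∀ w : ↥(S.P : Subgroup G), w ≠ 1 →
      ∑ η ∈ S.D.Y, (((S.D.ψ η w : ℂˣ) : ℂ) + (((S.D.ψ η w)⁻¹ : ℂˣ) : ℂ)) = -1)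
    (hconj : ∀ g : G, p ∣ orderOf g → ∃ h : G, ∃ y ∈ (S.P : Subgroup G), y ≠ 1 ∧
      ∃ z ∈ Subgroup.center G, h * g * h⁻¹ = y * z)
    (g : G) (hg : p ∣ orderOf g) :
    symSq S.ζ g = ∑ η ∈ S.D.Y, powFun S.k η g := by
  obtain ⟨θ, ω, hω, h1, h2, h3, h4⟩ := psing_values S hodd hzreg hpsi hconj g hg
  unfold symSq powFun
  rw [h1, h2, h4]
  field_simp
  ring

end Cfsg.Agent.Lib.Helper87.S4705
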