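/-
helper87, module S4705-[PSISUM] of helper17's S4705 project (hedge).
-/
import Mathlib
import Cfsg.Prelude.Def_Characters
import Cfsg.Prelude.Def_Blocks
import Cfsg.Agent.Lib.Helper17.PM2.Defs

set_option autoImplicit false

open Cfsg Cfsg.Agent.Lib.Helper17.PM2
open scoped ComplexConjugate

universe u

namespace Cfsg.Agent.Lib.Helper87.S4705

/-- The sum of all `x` with `x ^ n = 1`, `x ≠ 1`, over a finset `T` of exactly `n - 1` such
elements, is `-1`. -/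
theorem sum_roots_ne_one {n : ℕ} (hn : 1 < n) (T : Finset ℂ) (hT : ∀ x ∈ T, x ^ n = 1 ∧ x ≠ 1)
    (hcard : T.card = n - 1) : ∑ x ∈ T, x = -1 := by
  classical
  have hn0 : n ≠ 0 := by omega
  have : NeZero n := ⟨hn0⟩
  set ζ₀ : ℂ := Complex.exp (2 * Real.pi * Complex.I / n) with hζ₀def
  have hζ₀ : IsPrimitiveRoot ζ₀ n := Complex.isPrimitiveRoot_exp n hn0
  set R : Finset ℂ := (Finset.range n).image (fun i => ζ₀ ^ i) with hR
  have hinj : Set.InjOn (fun i : ℕ => ζ₀ ^ i) (Finset.range n : Set ℕ) := by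
    intro i hi j hj hij
    exact hζ₀.pow_inj (Finset.mem_range.1 hi) (Finset.mem_range.1 hj) hij
  have hRcard : R.card = n := by
    rw [hR, Finset.card_image_of_injOn hinj, Finset.card_range]
  have hRsum : ∑ x ∈ R, x = 0 := by
    rw [hR, Finset.sum_image hinj]
    exact hζ₀.geom_sum_eq_zero hn
  have h1R : (1 : ℂ) ∈ R := by
    rw [hR, Finset.mem_image]
    exact ⟨0, Finset.mem_range.2 (by omega), pow_zero _⟩
  have hsub : T ⊆ R.erase 1 := by
    intro x hx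
    obtain ⟨h1, h2⟩ := hT x hx
    rw [Finset.mem_erase]
    refine ⟨h2, ?_⟩
    obtain ⟨i, hi, hix⟩ := hζ₀.eq_pow_of_pow_eq_one h1
    rw [hR, Finset.mem_image]
    exact ⟨i, Finset.mem_range.2 hi, hix⟩
  have heq : T = R.erase 1 := by
    apply Finset.eq_of_subset_of_card_le hsub
    rw [Finset.card_erase_of_mem h1R, hRcard, hcard]
  rw [heq, Finset.sum_erase_eq_sub h1R, hRsum]
  ring

variable {G : Type u} [Group G] [Fintype G] {p : ℕ} (S : Setting G p)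

/-- [PSISUM] -/
theorem sum_psi (w : ↥(S.P : Subgroup G)) (hw : w ≠ 1) :
    ∑ η ∈ S.D.Y, (((S.D.ψ η w : ℂˣ) : ℂ) + (((S.D.ψ η w)⁻¹ : ℂˣ) : ℂ)) = -1 := by
  classical
  have hp : p.Prime := S.hp
  have hp5 : 5 < p := S.h5
  have : Fact p.Prime := ⟨hp⟩
  have hpodd : Odd p := by
    rcases hp.eq_two_or_odd' with h2 | h2
    · omega
    · exact h2
  have htop : Subgroup.zpowers w = ⊤ := zpowers_eq_top_of_prime_card S.hP hw
  have hgen : ∀ x : ↥(S.P : Subgroup G), ∃ i : ℕ, w ^ i = x := by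
    intro x
    have h1 : x ∈ Subgroup.zpowers w := by rw [htop]; exact Subgroup.mem_top x
    have h2 : x ∈ Submonoid.powers w := (mem_powers_iff_mem_zpowers).2 h1
    exact h2
  have hext : ∀ f₁ f₂ : ↥(S.P : Subgroup G) →* ℂˣ, f₁ w = f₂ w → f₁ = f₂ := by
    intro f₁ f₂ h
    ext x
    obtain ⟨i, rfl⟩ := hgen x
    rw [map_pow, map_pow, h]
  have hwp : w ^ p = 1 := by
    have h1 : orderOf w ∣ p := by
      have := orderOf_dvd_natCard w
      rwa [S.hP] at this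
    exact orderOf_dvd_iff_pow_eq_one.1 h1
  set a : (G → ℂ) → ℂ := fun η => ((S.D.ψ η w : ℂˣ) : ℂ) with ha
  have ha_pow : ∀ η, a η ^ p = 1 := by
    intro η
    show ((S.D.ψ η w : ℂˣ) : ℂ) ^ p = 1
    rw [← Units.val_pow_eq_pow_val, ← map_pow, hwp, map_one, Units.val_one]
  have ha_inj : ∀ η ∈ S.D.Y, ∀ η' ∈ S.D.Y, a η = a η' → η = η' := by
    intro η hη η' hη' h
    have h1 : S.D.ψ η w = S.D.ψ η' w := Units.ext h
    exact S.D.hψinj η hη η' hη' (Or.inl (hext _ _ h1))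
  have ha_inv : ∀ η ∈ S.D.Y, ∀ η' ∈ S.D.Y, a η = (a η')⁻¹ → η = η' := by
    intro η hη η' hη' h
    have h1 : S.D.ψ η w = (S.D.ψ η')⁻¹ w := by
      apply Units.ext
      rw [MonoidHom.inv_apply, Units.val_inv_eq_inv_val]
      exact h
    exact S.D.hψinj η hη η' hη' (Or.inr (hext _ _ h1))
  have ha_ne1 : ∀ η ∈ S.D.Y, a η ≠ 1 := by
    intro η hη h
    have h1 : S.D.ψ η w = (1 : ↥(S.P : Subgroup G) →* ℂˣ) w := by
      apply Units.ext
      rw [MonoidHom.one_apply, Units.val_one]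
      exact h
    exact S.D.hψ1 η hη (hext _ _ h1)
  have ha_ne0 : ∀ η, a η ≠ 0 := fun η => Units.ne_zero _
  have ha_self : ∀ η ∈ S.D.Y, a η ≠ (a η)⁻¹ := by
    intro η hη h
    have h2 : a η ^ 2 = 1 := by
      rw [pow_two]
      nth_rewrite 2 [h]
      exact mul_inv_cancel₀ (ha_ne0 η)
    obtain ⟨m, hm⟩ := hpodd
    have h3 := ha_pow η
    rw [hm, pow_succ, pow_mul, h2, one_pow, one_mul] at h3
    exact ha_ne1 η hη h3
  -- rewrite the sum
  have hsum : ∑ η ∈ S.D.Y, (((S.D.ψ η w : ℂˣ) : ℂ) + (((S.D.ψ η w)⁻¹ : ℂˣ) : ℂ)) =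
      ∑ η ∈ S.D.Y, a η + ∑ η ∈ S.D.Y, (a η)⁻¹ := by
    rw [← Finset.sum_add_distrib]
    apply Finset.sum_congr rfl
    intro η _
    rw [Units.val_inv_eq_inv_val]
  rw [hsum]
  set T₁ : Finset ℂ := S.D.Y.image a with hT₁
  set T₂ : Finset ℂ := S.D.Y.image (fun η => (a η)⁻¹) with hT₂
  have hinj₁ : Set.InjOn a (S.D.Y : Set (G → ℂ)) := by
    intro η hη η' hη' h
    exact ha_inj η hη η' hη' h
  have hinj₂ : Set.InjOn (fun η => (a η)⁻¹) (S.D.Y : Set (G → ℂ)) := by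
    intro η hη η' hη' h
    exact ha_inj η hη η' hη' (inv_injective h)
  have hdisj : Disjoint T₁ T₂ := by
    rw [Finset.disjoint_left]
    intro x hx₁ hx₂
    rw [hT₁, Finset.mem_image] at hx₁
    rw [hT₂, Finset.mem_image] at hx₂
    obtain ⟨η, hη, rfl⟩ := hx₁
    obtain ⟨η', hη', h⟩ := hx₂
    have h1 : η = η' := ha_inv η hη η' hη' h.symm
    subst h1
    exact ha_self η hη h.symm
  have hs₁ : ∑ η ∈ S.D.Y, a η = ∑ x ∈ T₁, x := by
    rw [hT₁, Finset.sum_image hinj₁]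
  have hs₂ : ∑ η ∈ S.D.Y, (a η)⁻¹ = ∑ x ∈ T₂, x := by
    rw [hT₂, Finset.sum_image hinj₂]
  rw [hs₁, hs₂, ← Finset.sum_union hdisj]
  apply sum_roots_ne_one hp.one_lt
  · intro x hx
    rw [Finset.mem_union, hT₁, hT₂, Finset.mem_image, Finset.mem_image] at hx
    rcases hx with ⟨η, hη, rfl⟩ | ⟨η, hη, rfl⟩
    · exact ⟨ha_pow η, ha_ne1 η hη⟩
    · refine ⟨by rw [inv_pow, ha_pow η, inv_one], ?_⟩
      intro h
      apply ha_ne1 η hη
      rw [← inv_inv (a η), h, inv_one]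
  · rw [Finset.card_union_of_disjoint hdisj, hT₁, hT₂, Finset.card_image_of_injOn hinj₁,
      Finset.card_image_of_injOn hinj₂]
    have := S.D.hYcard
    omega

end Cfsg.Agent.Lib.Helper87.S4705
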